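import Mathlib
import Cfsg.Agent.Lib.MultC.McL.OutD

/-! generated certificate -/

set_option autoImplicit false
set_option maxRecDepth 100000
set_option Elab.async false

namespace CfsgLib.MultC.McL.O

open CfsgLib.Comput CfsgLib.MultC

open CfsgLib.Fischer

theorem v1 : wordsOK 275 9 U0 V1 [[0x4040303010202030404], [0x405010304040201]] = true := by decide +kernel
theorem v2 : wordsOK 275 9 U1 V2 [[0x708070708090a090a0707], [0x7070807]] = true := by decide +kernel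
theorem v3 : wordsOK 275 9 U2 V3 [[0xb0e0e0b0c0b0e0e], [0xd0d0c0b0c0b0b]] = true := by decide +kernel
theorem v4 : wordsOK 275 9 U3 V4 [[0x101011121111], [0xf0f10111011]] = true := by decide +kernel
theorem v5 : wordsOK 275 9 U4 V5 [[0x505070a0a070c0b0e120f13141314]] = true := by decide +kernel
theorem lb : Nat.ble 898128000 (lbVal (stepH W) 275 (toLB L0) []) = true := by decide +kernel
theorem lv0 : levOK (stepH W) 275 lev0 (letL (lev0 :: L1)) = true := by decide +kernel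
theorem lv1 : levOK (stepH W) 275 lev1 (letL (lev1 :: L2)) = true := by decide +kernel
theorem lv2 : levOK (stepH W) 275 lev2 (letL (lev2 :: L3)) = true := by decide +kernel
theorem lv3 : levOK (stepH W) 275 lev3 (letL (lev3 :: L4)) = true := by decide +kernel
theorem lv4 : levOK (stepH W) 275 lev4 (letL (lev4 :: [])) = true := by decide +kernel
theorem hl : D.lOK (stepH W) (baseL L0) = true := by decide +kernel
theorem hb : D.basic (stepH W) 275 (baseL L0) = true := by decide +kernel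
theorem a0 : eqOn (stepH W) (baseL L0) (1 :: [0x1050303, 0x80808, 0xb0b0c, 0x120f, 0x1314], [0x1050303, 0x80808, 0xb0b0c, 0x120f, 0x1314] ++ [23]) = true := by decide +kernel
theorem a1 : powOK (stepH W) (baseL L0) 23 ma = true := by decide +kernel
theorem l1 : powOK (stepH W) (baseL L0) D.wl ml = true := by decide +kernel
noncomputable def ta1 : CT :=
  (.br 0 [23, 0x1717, 0x17171717, 0x181818] 1 0 0 0 (.ch 233 0 (.frc 0x1717 0 251 0 (.frc 0x18181818 1 24 0 (.frc 23 2 56 0 (.frc 24 1 14 0 (.leaf 0))))) (.ch 0 0x5050405 (.ref 23 0 0) (.ch 1 0x60102 (.ref 0x1717 0 0) (.ch 2 0x10601 (.ref 0x171717 0 0) (.ch 3 0x503010506 (.ref 0x171717 0 0) (.ch 4 0x50503 (.frc 0x1717 0 107 0 (.frc 0x18181818 1 109 0 (.ref 0x1818 0 0))) (.ch 5 0x4060201 (.ref 0x171717 0 0) (.ch 6 0x1010601 (.ref 23 0 0) (.ch 7 0x4020106 (.ref 23 0 0) (.ch 8 0x30301 (.ref 23 0 0) (.ch 9 0x40405050606 (.ref 23 0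 0) (.ch 11 0x40501 (.ref 23 0 0) (.ch 12 0x404040601 (.ref 23 0 0) (.ch 13 0x50103 (.ref 23 0 0) (.ch 15 0x5040203 (.ref 23 0 0) (.ch 16 0x5050403 (.ref 23 0 0) (.ch 17 0x40604 (.ref 23 0 0) (.ch 18 0x402 (.ref 23 0 0) (.ch 19 0x50301 (.ref 23 0 0) (.ch 22 0x404 (.ref 23 0 0) (.ch 26 0x6010604 (.ref 0x171717 0 0) (.ch 27 0x5050106 (.ref 0x1717 0 0) (.ch 29 0x5060404 (.ref 0x1717 0 0) (.ch 31 0x102 (.ref 0x1717 0 0) (.ch 50 0x50304 (.ref 23 0 0) .nil))))))))))))))))))))))))))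
theorem ca1 : CT.chk (stepH W) 275 (msk ma) [0] ta1 false L0 [] [] = true := by decide +kernel
noncomputable def tl2 : CT :=
  (.br 0 [2, 0x202, 5] 1 0 0 0 (.cat (.ch 233 0 (.frc 2 0 251 0 (.frc 2 0 24 0 (.frc 2 0 56 0 (.frc 2 0 14 0 (.leaf 0))))) (.ch 0 0x5050405 (.ref 0x202 0 0) (.ch 1 0x60102 (.ref 2 0 0) (.cy 2 2 (.ch 3 0x503010506 (.ref 0x202 0 0) (.ch 4 0x50503 (.frc 2 0 107 0 (.frc 2 0 109 0 (.frc 2 0 151 0 (.frc 2 0 166 0 (.leaf 1))))) (.ch 6 0x1010601 (.ref 0x202 0 0) (.ch 7 0x4020106 (.ref 0x202 0 0) (.ch 8 0x30301 (.frc 2 0 57 0x90a070808 (.frc 2 0 245 0xc0b (.frc 2 0 50 16 (.ref 2 0 0)))) (.ch 9 0x40405050606 (.ref 0x202 0 0) (.ch 10 0x505060405 (.ref 2 0 0) (.ch 11 0x40501 (.ref 0x202 0 0) (.ch 13 0x50103 (.frc 2 0 145 0xa0908090a (.frc 2 0 82 0xd0c0b (.frc 2 0 123 0x120f (.ref 2 0 1)))) (.ch 15 0x5040203 (.ref 0x202 0 0) (.ch 17 0x40604 (.ref 0x202 0 0) (.ch 18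 0x402 (.ref 2 0 0) (.ch 19 0x50301 (.ref 0x202 0 0) (.ch 20 0x50501 (.ref 2 0 0) (.ch 21 0x30106 (.ref 2 0 0) (.ch 22 0x404 (.ref 0x202 0 0) (.ch 23 0x601050304 (.ref 0x202 0 0) (.ch 26 0x6010604 (.ref 2 0 0) (.ch 28 0x5050304 (.ref 2 0 0) (.ch 29 0x5060404 (.frc 2 0 84 0x90a07 (.frc 2 0 262 0xd0e0b0b (.frc 2 0 103 0x120f10 (.ref 2 0 1)))) (.ch 30 0x40503 (.ref 2 0 0) (.ch 31 0x102 (.ref 0x202 0 0) (.ch 32 0x50102 (.frc 2 0 168 0xa0908090a (.frc 2 0 67 0xd0c0b (.frc 2 0 195 0x120f (.ref 2 0 1)))) (.ch 36 0x4040203 (.ref 0x202 0 0) (.ch 37 0x406040301 (.ref 0x202 0 0) .nil)))))))))))))))))))))))))))))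
 (.ch 38 0x406010602 (.ref 0x202 0 0) (.ch 39 0x20204 (.ref 0x202 0 0) (.ch 43 0x6040201 (.frc 2 0 68 0x809 (.frc 2 0 141 0xd0c0d (.frc 2 0 184 18 (.ref 2 0 0)))) (.ch 47 0x504 (.ref 0x202 0 0) (.ch 49 0x6010503 (.ref 2 0 0) (.ch 53 0x10103 (.ref 0x202 0 0) (.ch 54 0x6060202 (.frc 2 0 157 0 (.frc 2 0 155 0 (.frc 2 0 101 0 (.frc 2 0 273 0 (.leaf 2))))) (.ch 58 0x1060402 (.ref 0x202 0 0) (.ch 60 0x50604 (.ref 2 0 0) (.cy 63 2 (.ch 71 0x60202 (.frc 2 0 142 0 (.frc 2 0 188 0 (.frc 2 0 181 0 (.frc 2 0 248 0 (.leaf 3))))) (.ch 74 0x30402 (.frc 2 0 240 0xa07 (.frc 2 0 158 0xc0d0c (.frc 2 0 143 0x1111 (.ref 2 0 1)))) (.cy 75 2 (.ch 78 0x50303 (.frc 2 0 93 0 (.frc 2 0 112 0 (.frc 2 0 237 0 (.frc 2 0 159 0 (.leaf 4))))) (.ch 80 0x604 (.ref 2 0 0) (.ch 81 0x4060604 (.ref 0x202 0 0) (.ch 83 0x103 (.ref 0x202 0 0) (.ch 85 0x6060403 (.ref 0x202 0 0) (.ch 87 0x5010106 (.ref 0x202 0 0) (.ch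 89 0x20402 (.ref 0x202 0 0) (.ch 90 0x2040203 (.ref 0x202 0 0) (.ch 91 0x404060405 (.ref 0x202 0 0) (.ch 94 0x4040601 (.ref 0x202 0 0) (.ch 97 0x40606 (.ref 2 0 0) (.ch 102 0x60601 (.ref 0x202 0 0) (.cy 105 2 (.ch 118 0x6010301 (.frc 2 0 179 0x807070a (.frc 2 0 241 12 (.frc 2 0 227 0x111212 (.ref 2 0 1)))) (.ch 124 0x1030405 (.ref 0x202 0 0) (.ch 130 0x4060406 (.ref 0x202 0 0) (.cy 187 2 .nil))))))))))))))))))))))))))))))))
theorem cl2 : CT.chk (stepH W) 275 (msk ml) D.V tl2 false L0 [] [] = true := by decide +kernel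
theorem cand0 : allIn (D.candOK (stepH W) 275) 0 50 = true := by decide +kernel
theorem sok : sN.ok 275 = true := by decide +kernel
theorem n0 : normOK 275 9 W sN [1] [1] = true := by decide +kernel
theorem n1 : normOK 275 9 W sN [2] [2] = true := by decide +kernel
theorem n2 : normOK 275 9 W sN [3] [0x302060602] = true := by decide +kernel
theorem ni0 : allIn (D.nonInn (stepH W) 275 [1] [0x302060602]) 0 25 = true := by decide +kernel

end CfsgLib.MultC.McL.O
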